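import Groth.Agent.GrpSchLib.HomFlat
import Groth.Agent.GrpSchLib.Homogeneous
import Groth.Agent.GrpSchLib.RedSubgroup
import Groth.Agent.GrpSchLib.AntiAffineAction
import Groth.Agent.AlgStLib.MonoQuotGrp
import Groth.Agent.EtFound.Descent
import Groth.Agent.H23.RedSub
import Groth.Prelude.Def_ChGrp

/-! An orbit map with closed image and proper stabiliser is proper. -/

universe u

open CategoryTheory CategoryTheory.Limits MonoidalCategory CartesianMonoidalCategory MonObj AlgebraicGeometry

set_option autoImplicit false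
set_option maxHeartbeats 800000
set_option backward.isDefEq.respectTransparency false
set_option backward.isDefEq.respectTransparency.types false
set_option linter.style.haveILetI false

namespace Groth.Agent.GITQuot.OrbitProper

variable {k : Type u} [Field k] [IsAlgClosed k] {G X : Over (Spec (CommRingCat.of k))} [GrpObj G]
  [LocallyOfFiniteType G.hom] [QuasiCompact G.hom] [LocallyOfFiniteType X.hom]
  (a : AlgGrp.Action G X) (x : 𝟙_ (Over (Spec (CommRingCat.of k))) ⟶ X)

omit [IsAlgClosed k] in
theorem orbitMap_restrict {H : Over (Spec (CommRingCat.of k))} [GrpObj H] (i : H ⟶ G) [IsMonHom i] :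
    (a.restrict i).orbitMap x = i ≫ a.orbitMap x := by
  simp only [AlgGrp.Action.orbitMap, AlgGrp.Action.restrict_act, lift_whiskerRight_assoc, Category.id_comp,
    comp_lift_assoc, Category.comp_id]
  rw [← Category.assoc i (toUnit G) x, comp_toUnit]

theorem isProper_orbitMap (hcl : IsClosed (Set.range (a.orbitMap x).left))
    (hst : IsProper (pullback.snd (a.orbitMap x).left x.left)) : IsProper (a.orbitMap x).left := by
  haveI := GrpSchLib.AntiAffine.isSeparated_grp G
  set φ := a.orbitMap x with hφ
  haveI : IsSeparated (φ.left ≫ X.hom) := by rw [Over.w φ]; infer_instance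
  haveI : IsSeparated φ.left := IsSeparated.of_comp φ.left X.hom
  haveI : LocallyOfFiniteType (φ.left ≫ X.hom) := by rw [Over.w φ]; infer_instance
  haveI : LocallyOfFiniteType φ.left := locallyOfFiniteType_of_comp φ.left X.hom
  haveI : IsLocallyNoetherian X.left := LocallyOfFiniteType.isLocallyNoetherian X.hom
  haveI : CompactSpace G.left := (quasiCompact_iff_compactSpace G.hom).mp inferInstance
  -- the reduced subgroup
  obtain ⟨G', hG', i, hi, hicl, hred, hisurj, hlft, hqc⟩ := GrpSchLib.RedSubgroup.exists_redSubgroup G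
  haveI := hicl
  haveI := hred
  haveI := hisurj
  haveI := hlft
  haveI := hqc
  -- the orbit with its reduced structure
  obtain ⟨W, j, hj, hW, hWr⟩ := H23.RedSub.exists_reduced_subscheme X.left hcl.isLocallyClosed
  haveI := hj
  haveI := hW
  haveI : IsClosedImmersion j := .of_isPreimmersion _ (hWr ▸ hcl)
  let Z : Over (Spec (CommRingCat.of k)) := Over.mk (j ≫ X.hom)
  let iZ : Z ⟶ X := Over.homMk j rfl
  haveI : IsClosedImmersion iZ.left := ‹IsClosedImmersion j›
  haveI : IsReduced Z.left := hW
  haveI : LocallyOfFiniteType Z.hom := inferInstanceAs (LocallyOfFiniteType (j ≫ X.hom))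
  haveI : IsLocallyNoetherian Z.left := LocallyOfFiniteType.isLocallyNoetherian Z.hom
  obtain ⟨g₀, hg₀⟩ := H23.RedSub.exists_lift_closed (i ≫ φ).left j (by
    rw [hWr]; rintro _ ⟨t, rfl⟩; exact ⟨i.left t, rfl⟩)
  let g : G' ⟶ Z := Over.homMk g₀ (by
    show g₀ ≫ j ≫ X.hom = G'.hom
    rw [← Category.assoc, hg₀, Over.w (i ≫ φ)])
  have hg : g ≫ iZ = i ≫ φ := Over.OverMorphism.ext hg₀
  haveI : Surjective g.left := ⟨fun z => by
    obtain ⟨t, ht⟩ := hWr.le ⟨z, rfl⟩
    obtain ⟨t', rfl⟩ := i.left.surjective t
    refine ⟨t', iZ.left.injective ?_⟩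
    show (g ≫ iZ).left t' = _
    rw [hg]
    exact ht⟩
  haveI : LocallyOfFiniteType g.left := by
    haveI : LocallyOfFiniteType (g.left ≫ Z.hom) := by rw [Over.w g]; infer_instance
    exact locallyOfFiniteType_of_comp g.left Z.hom
  haveI : CompactSpace G'.left := (quasiCompact_iff_compactSpace G'.hom).mp inferInstance
  haveI : QuasiCompact g.left := inferInstance
  haveI : Nonempty G'.left := ⟨η[G'].left (IsLocalRing.closedPoint k)⟩
  -- flatness of the map onto the orbit, by homogeneity
  let P : Over (Spec (CommRingCat.of k)) := Over.mk (Spec.map (CommRingCat.ofHom (algebraMap k k)))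
  haveI : IsIso P.hom := by
    show IsIso (Spec.map (CommRingCat.ofHom (algebraMap k k)))
    rw [show CommRingCat.ofHom (algebraMap k k) = 𝟙 _ from rfl, Spec.map_id]
    infer_instance
  haveI : IsIso (fst Z P).left := inferInstanceAs (IsIso (pullback.fst Z.hom P.hom))
  haveI : IsReduced (Z ⊗ P).left := isReduced_of_isOpenImmersion (fst Z P).left
  haveI : IsClosedImmersion (iZ ▷ P).left :=
    GrpSchLib.property_whiskerRight iZ P @IsClosedImmersion inferInstance
  have hflat := (GrpSchLib.flat_surjective_of_homogeneous (k := k) k g fun y y' => by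
    obtain ⟨w, hw⟩ := GrpSchLib.exists_point_lift g y
    obtain ⟨w', hw'⟩ := GrpSchLib.exists_point_lift g y'
    obtain ⟨Si, T, hST, -, hS⟩ := GrpSchLib.orbitMap_homogeneous (a.restrict i) x w w'
    rw [orbitMap_restrict, ← hφ, ← hg, comp_whiskerRight] at hST
    haveI : IsIso T.hom.left := ((Over.forget _).mapIso T).isIso_hom
    haveI : IsIso Si.hom.left := ((Over.forget _).mapIso Si).isIso_hom
    haveI : Surjective (g ▷ P).left := GrpSchLib.property_whiskerRight g P @Surjective inferInstance
    have hfwd : Set.range ((iZ ▷ P) ≫ T.hom).left ⊆ Set.range (iZ ▷ P).left := by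
      rintro _ ⟨z, rfl⟩
      obtain ⟨z', rfl⟩ := (g ▷ P).left.surjective z
      refine ⟨(Si.hom ≫ g ▷ P).left z', ?_⟩
      show ((Si.hom ≫ g ▷ P) ≫ iZ ▷ P).left z' = (g ▷ P ≫ iZ ▷ P ≫ T.hom).left z'
      rw [Category.assoc, hST, Category.assoc]
    have hbwd : Set.range ((iZ ▷ P) ≫ T.inv).left ⊆ Set.range (iZ ▷ P).left := by
      rintro _ ⟨z, rfl⟩
      obtain ⟨z', rfl⟩ := (g ▷ P).left.surjective z
      refine ⟨(Si.inv ≫ g ▷ P).left z', ?_⟩
      have e : (Si.inv ≫ g ▷ P) ≫ iZ ▷ P = g ▷ P ≫ iZ ▷ P ≫ T.inv := by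
        rw [Category.assoc, Iso.inv_comp_eq, ← Category.assoc (g ▷ P), ← Category.assoc Si.hom, hST,
          Category.assoc, T.hom_inv_id, Category.comp_id]
      exact congrArg (fun f => f.left z') e
    obtain ⟨α, hα⟩ := H23.RedSub.exists_lift_closed _ _ hfwd
    obtain ⟨β, hβ⟩ := H23.RedSub.exists_lift_closed _ _ hbwd
    haveI : Mono (iZ ▷ P).left := inferInstance
    haveI : Mono (iZ ▷ P) := Over.mono_of_mono_left _
    let α' : Z ⊗ P ⟶ Z ⊗ P := Over.homMk α (by
      rw [← Over.w (iZ ▷ P), ← Category.assoc, hα]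
      exact (Over.w _).trans (Over.w _).symm)
    let β' : Z ⊗ P ⟶ Z ⊗ P := Over.homMk β (by
      rw [← Over.w (iZ ▷ P), ← Category.assoc, hβ]
      exact (Over.w _).trans (Over.w _).symm)
    have hα' : α' ≫ iZ ▷ P = iZ ▷ P ≫ T.hom := Over.OverMorphism.ext hα
    have hβ' : β' ≫ iZ ▷ P = iZ ▷ P ≫ T.inv := Over.OverMorphism.ext hβ
    refine ⟨Si, ⟨α', β', ?_, ?_⟩, ?_, ?_⟩
    · rw [← cancel_mono (iZ ▷ P), Category.assoc, hβ', reassoc_of% hα', T.hom_inv_id, Category.comp_id,
        Category.id_comp]
    · rw [← cancel_mono (iZ ▷ P), Category.assoc, hα', reassoc_of% hβ', T.inv_hom_id, Category.comp_id,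
        Category.id_comp]
    · rw [← cancel_mono (iZ ▷ P), Category.assoc, hST, Category.assoc, Category.assoc, hα']
    · rw [← cancel_mono (iZ ▷ P), Category.assoc, hα', ← Category.assoc, lift_whiskerRight, lift_whiskerRight,
        ← hw, ← hw', Category.assoc, Category.assoc, hg, ← lift_whiskerRight, ← lift_whiskerRight, ← hS,
        Category.assoc, Category.assoc]
      have e : Si.hom ≫ (i ≫ φ) ▷ P = (i ≫ φ) ▷ P ≫ T.hom := by
        rw [← hg, comp_whiskerRight]; exact hST
      rw [e]).1
  haveI := hflat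
  -- properness of the kernel pair
  haveI : IsProper (pullback.snd (i ≫ φ).left x.left) := by
    have hp : IsPullback (pullback.fst φ.left x.left) (pullback.snd φ.left x.left) φ.left x.left := .of_hasPullback _ _
    rw [show pullback.snd (i ≫ φ).left x.left =
      (pullbackRightPullbackFstIso φ.left x.left i.left).inv ≫ pullback.snd i.left (pullback.fst φ.left x.left) ≫
        pullback.snd φ.left x.left from ?_]
    · infer_instance
    · simp [Over.comp_left]
  let H := pullback ((a.restrict i).orbitMap x) x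
  haveI : IsProper H.hom := by
    have e : IsPullback (pullback.fst ((a.restrict i).orbitMap x) x).left
        (pullback.snd ((a.restrict i).orbitMap x) x).left (i ≫ φ).left x.left := by
      rw [← show ((a.restrict i).orbitMap x).left = (i ≫ φ).left by rw [orbitMap_restrict]]
      exact (IsPullback.of_hasPullback ((a.restrict i).orbitMap x) x).map (Over.forget _)
    rw [show H.hom = e.isoPullback.hom ≫ pullback.snd (i ≫ φ).left x.left ≫
        (𝟙_ (Over (Spec (CommRingCat.of k)))).hom from by
      rw [← Category.assoc, e.isoPullback_hom_snd, Over.w]]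
    haveI : IsIso (𝟙_ (Over (Spec (CommRingCat.of k)))).hom := inferInstanceAs (IsIso (𝟙 _))
    infer_instance
  have sq : IsPullback ((G' ◁ pullback.fst ((a.restrict i).orbitMap x) x) ≫ μ[G']).left (fst G' H).left
      g.left g.left := by
    have h1 := AlgStLib.MonoFactor.isPullback_orbitMap (a.restrict i) x
    have he : (a.restrict i).orbitMap x = g ≫ iZ := by rw [orbitMap_restrict, hg]
    haveI : Mono iZ.left := inferInstance
    haveI : Mono iZ := Over.mono_of_mono_left _
    have hw : ((G' ◁ pullback.fst ((a.restrict i).orbitMap x) x) ≫ μ[G']) ≫ g = fst G' H ≫ g := by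
      rw [← cancel_mono iZ, Category.assoc, Category.assoc (fst G' H), ← he]
      exact h1.w
    refine IsPullback.map (Over.forget _) (IsPullback.of_isLimit' ⟨hw⟩ (PullbackCone.IsLimit.mk _
      (fun s => h1.lift s.fst s.snd (by rw [he, s.condition_assoc]))
      (fun s => h1.lift_fst _ _ _) (fun s => h1.lift_snd _ _ _) fun s m hm₁ hm₂ => ?_))
    exact h1.hom_ext (hm₁.trans (h1.lift_fst _ _ _).symm) (hm₂.trans (h1.lift_snd _ _ _).symm)
  haveI : IsProper (fst G' H).left := inferInstanceAs (IsProper (pullback.fst G'.hom H.hom))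
  haveI : IsProper g.left := by
    haveI := EtFound.fpqc_isProper.{u}
    exact MorphismProperty.of_isPullback_of_descendsAlong (P := @IsProper)
      (Q := @Surjective ⊓ @Flat ⊓ @QuasiCompact) sq.flip ⟨⟨inferInstance, inferInstance⟩, inferInstance⟩ ‹_›
  haveI : UniversallyClosed (i.left ≫ φ.left) := by
    rw [← Over.comp_left, ← hg, Over.comp_left]; infer_instance
  haveI : UniversallyClosed φ.left := UniversallyClosed.of_comp_surjective i.left φ.left
  exact ⟨⟩

end Groth.Agent.GITQuot.OrbitProper
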